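import Cfsg.Agent.SporB.Fi23.D5.Data

set_option autoImplicit false
set_option maxRecDepth 100000

namespace Cfsg.Agent.CosetEnum.Fi23.D5

def fv0 : ℕ := 0x1c000010001c00074000020000e000040001a000010001a00072000020000d00002000300003600002000300003600070000030000a0001a0001200001000120006c00002000080000d00014000340000200014000340006c00003000080001a0000e00038000020000e000380006a00003000040001800006000020000200006000020006800003000010001300000000010000000066000020000000011000000000000000000190000d000010000d0005a0000200007000080001c000010001c00060000020000e000050001a00030000020001a000300005e000030000c000180003600001000360005c000020000a0000e000120000e00002000120000e0005800003000060001700032000010003200058000020000600016000380000100038000560000200004000150000600001000060005200002000020000800004000010000400052000020000200015000020000000002000020000000050000030000000007000000000000000000140001900001000190004a000020000d000110001c0001a000020001c0001a0004a000030000d0001300030000010003000048000020000c0001200036000010003600046000020000a0001000012000010001200042000020000800011000340000100034000420000200008000100000e0000a000020000e0000a0003e00003000030000f0000800001000080003e00002000030000e00004000020000200004000020003c0000300001000060000000001000000003a00002000000000d0000000000000000000c0000000006000050000b00003000060000b0001600001000120003500002000090000100010000010000e00033000020000700002000000000a000090000d00003000070000a00000000160001500019000030000d000090001c000010001c0002c000020000e000080001a00018000020001a000180002a000030000b000070001400010000020001400010000280000300007000060000c000010000c0002400002000050000500006000010000600022000020000200004000080000400002000080000400022000030000200003000020000100002000200000200001000020000000001000000001e00002000000000100000000000000000000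
theorem fok0 : sys.checkFacts 15 45 fv0 = true := by decide +kernel

def rv0 : ℕ := 0x2e000010001d000010004c00001000620000100076000010002c000010001c000010001b000010006000001000740000100019000010004a000010001a0000100031000010007200001000170000100048000010005e000010003000001000370000100018000010004e000010002a0000100015000010006e00001000130000100046000010005c000010007000001000360000100016000010004400001000110000100014000010003500001000120000100042000010000f000010006c0000100034000010005a000010000d0000100010000010002800001000330000100058000010000b000010000e000010003900001000320000100064000010000c00001000400000100024000010000900001000560000100007000010006a000010003800001000260000100054000010000a000010003e0000100005000010000800001000520000100006000010000300001000040000100022000010000100001000680000100002000010003c0000100020000010000000001000660000100050000010003a000010001e00001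
theorem rok0 : sys.checkRows 16 60 0 16 rv0 = true := by decide +kernel

end Cfsg.Agent.CosetEnum.Fi23.D5
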