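import Cfsg.Agent.Lib.CosetEnum.Cox

set_option autoImplicit false
set_option maxRecDepth 100000

namespace Cfsg.Agent.CosetEnum.Fi23.D5

def fxL0 : ℕ := 0x78000780000380003800001a0001a10000a0000a0000058000584000200002040000800008300001000011800000000010000140001420001e0001e10000e0000e1000060000608000280002880000e0000e4000060000620000200002100000c0000c800004000042000000000018000580005880003c0003c60001a0001a30000c0000c180005000050c000240002460001000010200005000051000018000184000040000420000000000100006000040000060000500000240002000000e0000c10000d0000c200007800079000038000384000160001610000700007000002000020400014000140000040000400000100001000000000000c0003c0003840001c0001a40000d0000b20000600004840002c000248000140001020000900007100004000030c0001c0001460000c000060000050000318000200001040000c000084000040000240000100000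
def fx : PTree := (.leaf fxL0)
def rule0 : Rule := ⟨0, [], [], true, 0, 0⟩
def rule1 : Rule := ⟨0, [0,4], [4], false, 4, 0⟩
def rule2 : Rule := ⟨0, [0,2], [2], false, 2, 0⟩
def rule3 : Rule := ⟨1, [0,1,0], [1,0], false, 1, 0⟩
def rule4 : Rule := ⟨0, [0,3], [3], false, 3, 0⟩
def rule5 : Rule := ⟨1, [1,3], [3], false, 8, 0⟩
def rule6 : Rule := ⟨2, [1,2,1], [2,1], false, 7, 0⟩
def rule7 : Rule := ⟨4, [2,4,2], [4,2], false, 14, 0⟩
def rule8 : Rule := ⟨4, [4,3], [3], false, 19, 1⟩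
def rule9 : Rule := ⟨1, [4,1,4], [], false, 9, 1⟩
def rule10 : Rule := ⟨0, [3,0,3], [], false, 3, 1⟩
def rule11 : Rule := ⟨1, [3,1,3], [], false, 8, 1⟩
def rule12 : Rule := ⟨1, [], [], true, 0, 0⟩
def rule13 : Rule := ⟨1, [1,4], [4], false, 9, 0⟩
def rule14 : Rule := ⟨2, [2,0], [0], false, 2, 1⟩
def rule15 : Rule := ⟨3, [2,3,2], [3,2], false, 13, 0⟩
def rule16 : Rule := ⟨3, [3,0], [0], false, 3, 1⟩
def rule17 : Rule := ⟨3, [3,4], [4], false, 19, 0⟩
def rule18 : Rule := ⟨3, [3,1], [1], false, 8, 1⟩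
def rule19 : Rule := ⟨2, [3,2,3], [2,3], false, 13, 1⟩
def rule20 : Rule := ⟨2, [], [], true, 0, 0⟩
def rule21 : Rule := ⟨4, [4,1], [1], false, 9, 1⟩
def rule22 : Rule := ⟨4, [4,0], [0], false, 4, 1⟩
def rule23 : Rule := ⟨2, [4,2,4], [2,4], false, 14, 1⟩
def rule24 : Rule := ⟨1, [2,1,2], [1,2], false, 7, 1⟩
def rule25 : Rule := ⟨3, [], [], true, 0, 0⟩
def rule26 : Rule := ⟨0, [1,0,1], [0,1], false, 1, 1⟩
def rules : DTree Rule := (.node 13 (.node 6 (.node 3 (.node 1 (.leaf rule0) (.node 1 (.leaf rule1) (.leaf rule2))) (.node 1 (.leaf rule3) (.node 1 (.leaf rule4) (.leaf rule5)))) (.node 3 (.node 1 (.leaf rule6) (.node 1 (.leaf rule7) (.leaf rule8))) (.node 2 (.node 1 (.leaf rule9) (.leaf rule10)) (.node 1 (.leaf rule11) (.leaf rule12))))) (.node 7 (.node 3 (.node 1 (.leaf rule13) (.node 1 (.leaf rule14) (.leaf rule15))) (.node 2 (.node 1 (.leaf rule16) (.leaf rule17)) (.node 1 (.leaf rule18) (.leaf rule19)))) (.node 3 (.node 1 (.leaf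 rule20) (.node 1 (.leaf rule21) (.leaf rule22))) (.node 2 (.node 1 (.leaf rule23) (.leaf rule24)) (.node 1 (.leaf rule25) (.leaf rule26))))))
def sys : Sys := ⟨5, 0xa418820, fx, rules⟩
def sel : List ℕ := [1,2,3,4,8]
def rels : List (List ℕ) := [[0,0],
  [0,1,0,1,0,1],
  [0,2,0,2],
  [0,3,0,3],
  [0,4,0,4],
  [1,0,1,0,1,0],
  [1,1],
  [1,2,1,2,1,2],
  [1,3,1,3],
  [1,4,1,4],
  [2,0,2,0],
  [2,1,2,1,2,1],
  [2,2],
  [2,3,2,3,2,3],
  [2,4,2,4,2,4],
  [3,0,3,0],
  [3,1,3,1],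
  [3,2,3,2,3,2],
  [3,3],
  [3,4,3,4],
  [4,0,4,0],
  [4,1,4,1],
  [4,2,4,2,4,2],
  [4,3,4,3],
  [4,4]]
def subs : List (List ℕ) := [[0], [1], [2], [3]]

end Cfsg.Agent.CosetEnum.Fi23.D5
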